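import Mathlib

/-!
# Derivations extend to the normalisation in characteristic zero
-/

universe u

namespace Groth.Agent.Seidenberg

noncomputable section

open PowerSeries

variable {k : Type u} [Field k] [CharZero k] {A : Type u} [CommRing A] [Algebra k A] (D : Derivation k A A)

/-- The `n`-th divided power of a derivation. -/
def ediv (n : ℕ) (a : A) : A := algebraMap k A ((n.factorial : k)⁻¹) * (⇑D)^[n] a

theorem iterate_add (n : ℕ) (a b : A) : (⇑D)^[n] (a + b) = (⇑D)^[n] a + (⇑D)^[n] b := by
  induction n with
  | zero => rfl
  | succ n ih => rw [Function.iterate_succ_apply', ih, map_add, ← Function.iterate_succ_apply' (⇑D),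
      ← Function.iterate_succ_apply' (⇑D)]

theorem iterate_algebraMap (n : ℕ) (r : k) :
    (⇑D)^[n + 1] (algebraMap k A r) = 0 := by
  induction n with
  | zero => simp
  | succ n ih => rw [Function.iterate_succ_apply', ih, map_zero]

/-- The formal exponential of a derivation, as a function. -/
def expFun (a : A) : A⟦X⟧ := PowerSeries.mk fun n => ediv D n a

theorem coeff_expFun (n : ℕ) (a : A) : coeff n (expFun D a) = ediv D n a := coeff_mk _ _

theorem coeff_expFun_zero (a : A) : coeff 0 (expFun D a) = a := by simp [coeff_expFun, ediv]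

theorem expFun_add (a b : A) : expFun D (a + b) = expFun D a + expFun D b := by
  ext n; simp [coeff_expFun, ediv, iterate_add, mul_add]

theorem derivative_expFun (a : A) : d⁄dX A (expFun D a) = expFun D (D a) := by
  ext n
  rw [coeff_derivative, coeff_expFun, coeff_expFun, ediv, ediv, ← Function.iterate_succ_apply,
    show ((n : A) + 1) = algebraMap k A ((n : k) + 1) by simp, mul_comm, ← mul_assoc, ← map_mul]
  congr 2
  have h1 : (n.factorial : k) ≠ 0 := Nat.cast_ne_zero.2 n.factorial_ne_zero
  have h2 : ((n : k) + 1) ≠ 0 := Nat.cast_add_one_ne_zero n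
  rw [Nat.factorial_succ]
  push_cast
  field_simp

theorem expFun_mul (a b : A) : expFun D (a * b) = expFun D a * expFun D b := by
  ext n
  induction n generalizing a b with
  | zero => rw [coeff_zero_eq_constantCoeff, map_mul, ← coeff_zero_eq_constantCoeff, coeff_expFun_zero,
      coeff_expFun_zero, coeff_expFun_zero]
  | succ n ih =>
    have hu : IsUnit ((n : A) + 1) := by
      rw [show ((n : A) + 1) = algebraMap k A ((n : k) + 1) by simp]
      exact (IsUnit.mk0 _ (Nat.cast_add_one_ne_zero n)).map _
    refine hu.mul_left_injective ?_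
    simp only
    rw [← coeff_derivative, ← coeff_derivative, derivative_expFun, Derivation.leibniz, Derivation.leibniz,
      derivative_expFun, derivative_expFun, smul_eq_mul, smul_eq_mul, smul_eq_mul, smul_eq_mul,
      expFun_add, map_add, map_add, ih, ih]

theorem expFun_algebraMap (r : k) : expFun D (algebraMap k A r) = algebraMap k A⟦X⟧ r := by
  ext n
  cases n with
  | zero => simp [coeff_expFun_zero, PowerSeries.algebraMap_apply]
  | succ n => simp [coeff_expFun, ediv, iterate_algebraMap, PowerSeries.algebraMap_apply, coeff_C]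

/-- The formal exponential of a derivation. -/
def expHom : A →ₐ[k] A⟦X⟧ where
  toFun := expFun D
  map_one' := by rw [← map_one (algebraMap k A), expFun_algebraMap, map_one]
  map_mul' := expFun_mul D
  map_zero' := by rw [← map_zero (algebraMap k A), expFun_algebraMap, map_zero]
  map_add' := expFun_add D
  commutes' := expFun_algebraMap D

/-- The localisation of a Noetherian ring. -/
theorem exists_common_denominator {K : Type u} [CommRing K] [Algebra A K]
    [IsLocalization (nonZeroDivisors A) K] {x : K} (hx : IsIntegral A x) :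
    ∃ c : nonZeroDivisors A, ∀ i : ℕ, IsLocalization.IsInteger A ((c : A) • x ^ i) := by
  obtain ⟨s, hs⟩ := hx.fg_adjoin_singleton
  obtain ⟨c, hc⟩ := IsLocalization.exist_integer_multiples_of_finset (nonZeroDivisors A) s
  refine ⟨c, fun i => ?_⟩
  have hmem : x ^ i ∈ Submodule.span A (s : Set K) := by
    rw [hs]; exact pow_mem (Algebra.self_mem_adjoin_singleton A x) i
  suffices ∀ z ∈ Submodule.span A (s : Set K), IsLocalization.IsInteger A ((c : A) • z) from this _ hmem
  intro z hz
  induction hz using Submodule.span_induction with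
  | mem y hy => exact hc y hy
  | zero => rw [smul_zero]; exact IsLocalization.isInteger_zero
  | add y z _ _ hy hz => rw [smul_add]; exact IsLocalization.isInteger_add hy hz
  | smul a y _ hy => rw [smul_comm]; exact IsLocalization.isInteger_smul hy

theorem isIntegral_of_almost [IsNoetherianRing A] {K : Type u} [CommRing K] [Algebra A K]
    [IsLocalization (nonZeroDivisors A) K] {y : K} (c : nonZeroDivisors A)
    (h : ∀ j : ℕ, IsLocalization.IsInteger A ((c : A) • y ^ j)) : IsIntegral A y := by
  let S := Algebra.adjoin A {y}
  refine IsIntegral.of_mem_of_fg S ?_ y (Algebra.self_mem_adjoin_singleton A y)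
  have hle : (Subalgebra.toSubmodule S).map (DistribSMul.toLinearMap A K (c : A)) ≤
      LinearMap.range (Algebra.linearMap A K) := by
    rw [Algebra.adjoin_eq_span, Submodule.map_span, Submodule.span_le]
    rintro _ ⟨z, hz, rfl⟩
    obtain ⟨j, rfl⟩ := Submonoid.mem_closure_singleton.mp hz
    exact h j
  refine Submodule.fg_of_fg_map_injective (DistribSMul.toLinearMap A K (c : A)) (fun a b e => ?_) ?_
  · have hu := IsLocalization.map_units K c
    refine hu.mul_left_cancel ?_
    rw [← Algebra.smul_def, ← Algebra.smul_def]
    exact e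
  · haveI : IsNoetherian A (LinearMap.range (Algebra.linearMap A K)) :=
      isNoetherian_of_surjective (Algebra.linearMap A K).rangeRestrict
        (LinearMap.range_rangeRestrict _)
    exact isNoetherian_submodule.mp this _ hle

/-- A derivation extends to the integral closure in the total ring of fractions. -/
theorem exists_extension [IsNoetherianRing A] :
    ∃ D' : Derivation k ↥(integralClosure A (FractionRing A)) ↥(integralClosure A (FractionRing A)),
      ∀ a : A, (D' (algebraMap A ↥(integralClosure A (FractionRing A)) a) : FractionRing A) =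
        algebraMap A (FractionRing A) (D a) := by
  let K := FractionRing A
  let φ : A →ₐ[k] K⟦X⟧ := (PowerSeries.mapAlgHom (IsScalarTower.toAlgHom k A K)).comp (expHom D)
  have hunit : ∀ s : nonZeroDivisors A, IsUnit (φ s) := fun s => by
    rw [PowerSeries.isUnit_iff_constantCoeff]
    have : constantCoeff (φ s) = algebraMap A K s := by
      rw [← coeff_zero_eq_constantCoeff_apply]
      show coeff 0 (PowerSeries.map (algebraMap A K) (expFun D s)) = _
      rw [coeff_map, coeff_expFun_zero]
    rw [this]
    exact IsLocalization.map_units K s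
  let E : K →ₐ[k] K⟦X⟧ := IsLocalization.liftAlgHom (M := nonZeroDivisors A) (f := φ) hunit
  have hE : ∀ a : A, E (algebraMap A K a) = φ a := fun a => IsLocalization.lift_eq hunit a
  have hφ : ∀ (n : ℕ) (a : A), coeff n (φ a) = algebraMap A K (ediv D n a) := fun n a => by
    show coeff n (PowerSeries.map (algebraMap A K) (expFun D a)) = _
    rw [coeff_map, coeff_expFun]
  have hE0 : ∀ x : K, coeff 0 (E x) = x := fun x => by
    obtain ⟨⟨a, s⟩, e⟩ := IsLocalization.surj (nonZeroDivisors A) x
    refine (IsLocalization.map_units K s).mul_left_injective ?_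
    have := congrArg (fun z => constantCoeff (E z)) e
    simp only [map_mul, hE, ← coeff_zero_eq_constantCoeff_apply, hφ] at this ⊢
    simp only [ediv, Nat.factorial_zero, Nat.cast_one, inv_one, map_one, one_mul, Function.iterate_zero,
      id_eq] at this
    rw [this, e]
  have hint : ∀ x : K, IsIntegral A x → IsIntegral A (coeff 1 (E x)) := by
    intro x hx
    obtain ⟨c, hc⟩ := exists_common_denominator hx
    refine isIntegral_of_almost (c * c) fun j => ?_
    let R₀ := (PowerSeries.map (algebraMap A K)).range
    have hcA : ∀ z : K, IsLocalization.IsInteger A z → E z ∈ R₀ := by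
      rintro z ⟨a, rfl⟩
      exact ⟨expFun D a, (hE a).symm⟩
    have hmem : PowerSeries.C (algebraMap A K c) * (E (algebraMap A K c) * (E x - PowerSeries.C x) ^ j) ∈ R₀ := by
      rw [sub_eq_add_neg, add_pow, Finset.mul_sum, Finset.mul_sum]
      refine sum_mem fun i _ => ?_
      obtain ⟨a, ha⟩ := hc (j - i)
      have e : PowerSeries.C (algebraMap A K c) * (E (algebraMap A K c) *
          (E x ^ i * (-PowerSeries.C x) ^ (j - i) * (j.choose i : K⟦X⟧))) =
          E ((c : A) • x ^ i) * ((-1) ^ (j - i) * PowerSeries.C ((c : A) • x ^ (j - i)) * (j.choose i : K⟦X⟧)) := by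
        rw [neg_pow, Algebra.smul_def, Algebra.smul_def, map_mul, map_mul, map_pow, map_pow]
        ring
      rw [e]
      refine mul_mem (hcA _ (hc i)) (mul_mem (mul_mem (pow_mem (neg_mem (one_mem _)) _) ?_) (natCast_mem _ _))
      rw [← ha]
      exact ⟨PowerSeries.C a, PowerSeries.map_C _ _⟩
    obtain ⟨g, hg⟩ := hmem
    have hX : (E x - PowerSeries.C x) = PowerSeries.X * PowerSeries.mk fun n => coeff (n + 1) (E x) := by
      ext n
      cases n with
      | zero => simp [hE0, coeff_zero_eq_constantCoeff_apply, ← coeff_zero_eq_constantCoeff_apply (φ := E x)]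
      | succ n => simp [coeff_C]
    refine ⟨coeff j g, ?_⟩
    rw [← coeff_map, hg, hX, coeff_C_mul, mul_pow, mul_left_comm, coeff_X_pow_mul', if_pos le_rfl, Nat.sub_self,
      coeff_zero_eq_constantCoeff_apply, map_mul, map_pow, ← coeff_zero_eq_constantCoeff_apply, hE0,
      ← coeff_zero_eq_constantCoeff_apply, coeff_mk, zero_add, Algebra.smul_def, Submonoid.coe_mul, map_mul]
    ring
  let B := integralClosure A K
  let L : ↥B →ₗ[k] ↥B :=
    { toFun := fun x => ⟨coeff 1 (E x.1), hint _ x.2⟩
      map_add' := fun x y => Subtype.ext (by simp)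
      map_smul' := fun r x => Subtype.ext (by
        show coeff 1 (E (r • x.1)) = r • coeff 1 (E x.1)
        rw [map_smul, coeff_smul]) }
  refine ⟨Derivation.mk' L fun x y => Subtype.ext ?_, fun a => ?_⟩
  · show coeff 1 (E (x.1 * y.1)) = x.1 * coeff 1 (E y.1) + y.1 * coeff 1 (E x.1)
    rw [map_mul, coeff_mul, Finset.Nat.antidiagonal_succ, Finset.sum_cons, Finset.sum_map]
    simp [Finset.Nat.antidiagonal_zero, hE0]
    ring
  · show coeff 1 (E (algebraMap A K a)) = _
    rw [hE, hφ]
    simp [ediv]
    rfl

end

end Groth.Agent.Seidenberg
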